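import Mathlib.AlgebraicGeometry.Sites.Proetale

/-!
# Coverings of the small pro-etale site by affine objects
-/

set_option autoImplicit false

universe u

open CategoryTheory CategoryTheory.Limits AlgebraicGeometry

namespace ProEtPtsLib

variable {S : Scheme.{u}}

/-- The underlying morphism of a morphism of the pro-etale site. -/
abbrev und {A B : S.ProEt} (f : A ⟶ B) : A.left ⟶ B.left := ((Scheme.ProEt.forget S).map f).left

theorem ofArrows_mem_of_mem {W : S.ProEt} {ι : Type u} (Z : ι → S.ProEt) (g : ∀ i, Z i ⟶ W)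
    (h : Presieve.ofArrows (fun i => (Z i).left) (fun i => und (g i)) ∈
      Scheme.proetalePrecoverage W.left) :
    Sieve.ofArrows Z g ∈ Scheme.ProEt.topology S W := by
  refine Precoverage.generate_mem_toGrothendieck ?_
  change (Presieve.ofArrows Z g).map (Scheme.ProEt.forget S ⋙ Over.forget S) ∈
    Scheme.proetalePrecoverage ((Scheme.ProEt.forget S ⋙ Over.forget S).obj W)
  rw [Presieve.map_ofArrows]
  exact h

theorem openCover_mem {W : S.ProEt} (𝒰 : Scheme.OpenCover.{u} W.left) :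
    ∃ (Z : 𝒰.I₀ → S.ProEt) (g : ∀ i, Z i ⟶ W),
      (∀ i, (Z i).left = 𝒰.X i) ∧ Sieve.ofArrows Z g ∈ Scheme.ProEt.topology S W :=
  ⟨fun i => Scheme.ProEt.mk (𝒰.f i ≫ W.hom),
    fun i => MorphismProperty.Over.homMk (𝒰.f i) rfl, fun _ => rfl,
    ofArrows_mem_of_mem _ _ (Scheme.zariskiPrecoverage_le_propQCPrecoverage _ 𝒰.mem₀)⟩

theorem exists_finite_affine {W : S.ProEt} [IsAffine W.left] (T : Sieve W)
    (hT : T ∈ Scheme.ProEt.topology S W) :
    ∃ (n : ℕ) (Z : Fin n → S.ProEt) (g : ∀ k, Z k ⟶ W),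
      (∀ k, IsAffine (Z k).left) ∧ (∀ k, T (g k)) ∧ Sieve.ofArrows Z g ∈ Scheme.ProEt.topology S W := by
  have h1 := (CoverPreserving.of_isContinuous (Scheme.ProEt.forget S) (Scheme.ProEt.topology S)
    (Scheme.proetaleTopology.over S)).cover_preserve hT
  rw [GrothendieckTopology.mem_over_iff] at h1
  haveI : Scheme.proetalePrecoverage.{u}.HasPullbacks := inferInstance
  obtain ⟨R, hR, hle⟩ := Precoverage.mem_toGrothendieck_iff_of_isStableUnderComposition.1 h1
  obtain ⟨𝒰, hqc, rfl⟩ := Scheme.mem_propQCPrecoverage_iff_exists_quasiCompactCover.1 hR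
  haveI : IsAffine ((Scheme.ProEt.forget S).obj W).left := ‹_›
  obtain ⟨n, i, V, hV, hcov⟩ := QuasiCompactCover.exists_isAffineOpen_of_isCompact 𝒰.toPreZeroHypercover
    (U := (⊤ : W.left.Opens)) isCompact_univ
  have hwe : ∀ k, WeaklyEtale ((V k).ι ≫ 𝒰.f (i k)) := fun k => by
    have : WeaklyEtale (𝒰.f (i k)) := 𝒰.map_prop (i k)
    infer_instance
  let Z : Fin n → S.ProEt := fun k =>
    haveI : WeaklyEtale W.hom := W.prop
    haveI : WeaklyEtale (X := (V k : Scheme)) (Y := W.left) ((V k).ι ≫ 𝒰.f (i k)) := hwe k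
    Scheme.ProEt.mk (X := (V k : Scheme)) (((V k).ι ≫ 𝒰.f (i k) : (V k : Scheme) ⟶ W.left) ≫ W.hom)
  let g : ∀ k, Z k ⟶ W := fun k => MorphismProperty.Over.homMk ((V k).ι ≫ 𝒰.f (i k)) rfl
  refine ⟨n, Z, g, fun k => hV k, fun k => ?_, ?_⟩
  · have hk : (Sieve.overEquiv _ (T.functorPushforward (Scheme.ProEt.forget S))) (𝒰.f (i k)) :=
      hle _ _ ⟨i k⟩
    rw [Sieve.overEquiv_iff] at hk
    obtain ⟨Y, h, a, hh, e⟩ := hk
    let b : Z k ⟶ Y := MorphismProperty.Over.homMk ((V k).ι ≫ a.left) (by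
      have := Over.w a
      simp only [Category.assoc]
      exact congrArg ((V k).ι ≫ ·) this)
    have : g k = b ≫ h := by
      apply (Scheme.ProEt.forget S).map_injective
      ext1
      have e' := congrArg (·.left) e
      simp only [Over.homMk_left, Over.comp_left] at e'
      change (V k).ι ≫ 𝒰.f (i k) = ((V k).ι ≫ a.left) ≫ _
      exact (congrArg ((V k).ι ≫ ·) e').trans (Category.assoc _ _ _).symm
    rw [this]
    exact T.downward_closed hh b
  · let 𝒱 : Scheme.Cover.{u} (Scheme.precoverage @WeaklyEtale) W.left :=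
      { I₀ := ULift.{u} (Fin n)
        X := fun k => (Z k.down).left
        f := fun k => und (g k.down)
        mem₀ := by
          rw [Scheme.presieve₀_mem_precoverage_iff]
          refine ⟨fun x => ?_, fun k => hwe k.down⟩
          have hx : x ∈ ⋃ k, (𝒰.f (i k)) '' (V k : Set _) := by rw [hcov]; trivial
          obtain ⟨k, y, hy, rfl⟩ := Set.mem_iUnion.1 hx
          exact ⟨⟨k⟩, ⟨y, hy⟩, rfl⟩ }
    haveI : ∀ k : 𝒱.I₀, QuasiCompact (𝒱.f k) := fun k => by
      haveI : IsAffine (Z k.down).left := hV k.down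
      exact inferInstanceAs (QuasiCompact (und (g k.down)))
    have hm : 𝒱.presieve₀ ∈ Scheme.proetalePrecoverage W.left :=
      ⟨Scheme.presieve₀_mem_qcPrecoverage_iff.2
        (@QuasiCompactCover.of_finite _ _ 𝒱 _ ‹_› (inferInstanceAs (Finite (ULift.{u} (Fin n))))), 𝒱.mem₀⟩
    refine GrothendieckTopology.superset_covering _ ?_
      (ofArrows_mem_of_mem (fun k : ULift.{u} (Fin n) => Z k.down) (fun k => g k.down) hm)
    rw [Sieve.generate_le_iff]
    rintro _ _ ⟨k⟩
    exact Sieve.ofArrows_mk _ _ _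

end ProEtPtsLib
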