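import Groth.Agent.ProEtPtsLib.Cover
import Groth.Agent.ToposFinLib.Deligne
import Mathlib.CategoryTheory.Sites.Point.Map
import Mathlib.CategoryTheory.Sites.DenseSubsite.InducedTopology

/-!
# The small pro-etale site has enough points
-/

set_option autoImplicit false

universe u

open CategoryTheory CategoryTheory.Limits AlgebraicGeometry Opposite

namespace ProEtPtsLib

variable {S : Scheme.{u}} (V : S.affineOpens)

/-- Affine objects over an affine open. -/
def affP : ObjectProperty S.ProEt :=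
  fun U => IsAffine U.left ∧ Set.range U.hom ⊆ (V.1 : Set S)

/-- The site of affine objects over an affine open. -/
abbrev Aff : Type (u + 1) := ULiftHom.{u + 1} (affP V).FullSubcategory

/-- The inclusion. -/
def incl : Aff V ⥤ S.ProEt := ULiftHom.down ⋙ (affP V).ι

instance : (incl V).Full :=
  inferInstanceAs ((ULiftHom.equiv (C := (affP V).FullSubcategory)).inverse ⋙ (affP V).ι).Full

instance : (incl V).Faithful :=
  inferInstanceAs ((ULiftHom.equiv (C := (affP V).FullSubcategory)).inverse ⋙ (affP V).ι).Faithful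

instance : (affP V).IsClosedUnderLimitsOfShape WalkingCospan where
  limitsOfShape_le := by
    rintro U ⟨D⟩
    have hD := D.prop_diag_obj
    let p : (Scheme.ProEt.forget S ⋙ Over.forget S).obj U ≅ _ :=
      (isLimitOfPreserves (Scheme.ProEt.forget S ⋙ Over.forget S) D.isLimit).conePointUniqueUpToIso
        (limit.isLimit _) ≪≫ HasLimit.isoOfNatIso (diagramIsoCospan _)
    have hne : ∀ j, IsAffine (D.diag.obj j).left := fun j => (hD j).1
    refine ⟨?_, ?_⟩
    · haveI := hne .left
      haveI := hne .right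
      haveI := hne .one
      haveI : IsAffine (((D.diag ⋙ Scheme.ProEt.forget S ⋙ Over.forget S)).obj .left) := hne .left
      haveI : IsAffine (((D.diag ⋙ Scheme.ProEt.forget S ⋙ Over.forget S)).obj .right) := hne .right
      haveI : IsAffine (((D.diag ⋙ Scheme.ProEt.forget S ⋙ Over.forget S)).obj .one) := hne .one
      exact .of_isIso p.hom
    · rintro _ ⟨x, rfl⟩
      have e : U.hom = (((Scheme.ProEt.forget S).map (D.π.app .one))).left ≫ (D.diag.obj .one).hom :=
        (Over.w ((Scheme.ProEt.forget S).map (D.π.app .one))).symm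
      rw [e]
      exact (hD .one).2 ⟨_, rfl⟩

/-- The terminal affine object. -/
noncomputable def top : (affP V).FullSubcategory :=
  haveI : WeaklyEtale V.1.ι := inferInstance
  ⟨Scheme.ProEt.mk V.1.ι, V.2, by
    change Set.range V.1.ι ⊆ _
    rw [Scheme.Opens.range_ι]⟩

instance : HasTerminal (affP V).FullSubcategory :=
  haveI hi : IsOpenImmersion (V.1.ι : (V.1 : Scheme) ⟶ S) := inferInstance
  haveI hm : Mono (V.1.ι : (V.1 : Scheme) ⟶ S) := inferInstance
  haveI : ∀ U : (affP V).FullSubcategory, Nonempty (U ⟶ top V) := fun U =>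
    ⟨ObjectProperty.homMk (MorphismProperty.Over.homMk
      (@IsOpenImmersion.lift _ _ _ (V.1.ι : (V.1 : Scheme) ⟶ S) U.1.hom hi
        (le_of_le_of_eq U.2.2 (Scheme.Opens.range_ι V.1).symm))
      (@IsOpenImmersion.lift_fac _ _ _ (V.1.ι : (V.1 : Scheme) ⟶ S) U.1.hom hi _))⟩
  haveI : ∀ U : (affP V).FullSubcategory, Subsingleton (U ⟶ top V) := fun U => ⟨fun a b => by
    ext1
    apply (Scheme.ProEt.forget S).map_injective
    ext1
    refine (@cancel_mono _ _ _ _ _ (V.1.ι : (V.1 : Scheme) ⟶ S) hm _ _).1 ?_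
    exact (Over.w ((Scheme.ProEt.forget S).map a.hom)).trans
      (Over.w ((Scheme.ProEt.forget S).map b.hom)).symm⟩
  haveI : ∀ U : (affP V).FullSubcategory, Unique (U ⟶ top V) := fun U =>
    uniqueOfSubsingleton (Classical.arbitrary _)
  hasTerminal_of_unique (top V)

instance : HasPullbacks (affP V).FullSubcategory :=
  haveI : HasPullbacks S.ProEt := inferInstance
  inferInstance

instance : HasFiniteLimits (affP V).FullSubcategory :=
  hasFiniteLimits_of_hasTerminal_and_pullbacks

instance : HasFiniteLimits (Aff V) :=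
  ⟨fun _ _ _ => Adjunction.hasLimitsOfShape_of_equivalence ULiftHom.equiv.inverse⟩

variable {V}

theorem affP_of_hom {U : Aff V} {Z : S.ProEt} [IsAffine Z.left] (f : Z ⟶ (incl V).obj U) :
    affP V Z :=
  ⟨‹_›, by
    rintro _ ⟨x, rfl⟩
    have e : Z.hom = und f ≫ ((incl V).obj U).hom :=
      (Over.w ((Scheme.ProEt.forget S).map f)).symm
    rw [e]
    exact U.objDown.2.2 ⟨_, rfl⟩⟩

/-- An affine object over an affine object. -/
def objOf {U : Aff V} {Z : S.ProEt} [IsAffine Z.left] (f : Z ⟶ (incl V).obj U) : Aff V :=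
  ULiftHom.objUp ⟨Z, affP_of_hom f⟩

/-- The morphism of affine objects. -/
def homOf {U : Aff V} {Z : S.ProEt} [IsAffine Z.left] (f : Z ⟶ (incl V).obj U) : objOf f ⟶ U :=
  ULift.up (ObjectProperty.homMk f)

instance : (incl V).LocallyCoverDense (Scheme.ProEt.topology S) where
  functorPushforward_functorPullback_mem U T := by
    refine GrothendieckTopology.transitive _ T.2 _ fun Z f hf => ?_
    obtain ⟨W, g, hW, hg⟩ := openCover_mem Z.left.affineCover
    refine GrothendieckTopology.superset_covering _ ?_ hg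
    rw [Sieve.generate_le_iff]
    rintro _ _ ⟨i⟩
    haveI : IsAffine (W i).left := by rw [hW i]; infer_instance
    exact ⟨objOf (g i ≫ f), homOf (g i ≫ f), 𝟙 _, T.1.downward_closed hf (g i),
      (Category.id_comp _).symm⟩

variable (V) in
/-- The topology on affine objects. -/
abbrev affJ : GrothendieckTopology (Aff V) :=
  (incl V).restrictedTopology (Scheme.ProEt.topology S)

theorem finCov : ToposFinLib.Deligne.FinCov (affJ V) := by
  intro U R hR
  rw [Functor.mem_restrictedTopology_iff] at hR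
  haveI : IsAffine ((incl V).obj U).left := U.objDown.2.1
  obtain ⟨n, Z, g, hZ, hg, hc⟩ := exists_finite_affine _ hR
  haveI : ∀ k, IsAffine (Z k).left := hZ
  refine ⟨n, fun k => objOf (g k), fun k => homOf (g k), fun k => ?_, ?_⟩
  · have := hg k
    rw [← Sieve.functorPullback_functorPushforward_eq (F := incl V) (S := R)]
    exact this
  · rw [Functor.mem_restrictedTopology_iff]
    refine GrothendieckTopology.superset_covering _ ?_ hc
    rw [Sieve.generate_le_iff]
    rintro _ _ ⟨k⟩
    exact ⟨objOf (g k), homOf (g k), 𝟙 _, Sieve.ofArrows_mk _ _ k, (Category.id_comp _).symm⟩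

/-- The inclusion of an open subscheme, in the pro-etale site. -/
noncomputable def openMap (X : S.ProEt) (A : X.left.Opens) :
    Scheme.ProEt.mk (A.ι ≫ X.hom) ⟶ X :=
  MorphismProperty.Over.homMk A.ι rfl

theorem hasEnoughPoints (S : Scheme.{u}) :
    GrothendieckTopology.HasEnoughPoints.{u + 1} (Scheme.ProEt.topology S) := by
  classical
  let K := Σ (V : S.affineOpens) (X : Aff V), {R : Sieve X // R ∉ affJ V X}
  choose Φ x hx using fun k : K => ToposFinLib.Deligne.exists_point finCov k.2.2.1 k.2.2.2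
  let Ψ : K → GrothendieckTopology.Point.{u + 1} (Scheme.ProEt.topology S) := fun k =>
    GrothendieckTopology.Point.map.{u + 1} (Φ k) (incl k.1) (Scheme.ProEt.topology S)
  refine ⟨ObjectProperty.ofObj Ψ, inferInstance, ?_⟩
  refine ObjectProperty.IsConservativeFamilyOfPoints.mk' fun X T hT => ?_
  by_contra hne
  obtain ⟨A, V, hAV, hbad⟩ : ∃ (A : X.left.affineOpens) (V : S.affineOpens),
      A.1 ≤ X.hom ⁻¹ᵁ V.1 ∧
      T.pullback (openMap X A.1) ∉ Scheme.ProEt.topology S _ := by
    by_contra! hh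
    let I := {p : X.left.affineOpens × S.affineOpens // p.1.1 ≤ X.hom ⁻¹ᵁ p.2.1}
    have hcov : TopologicalSpace.IsOpenCover (fun p : I => p.1.1.1) := by
      rw [TopologicalSpace.IsOpenCover, eq_top_iff]
      intro y _
      obtain ⟨W₂, hW₂, hy₂, -⟩ := TopologicalSpace.Opens.isBasis_iff_nbhd.1 S.isBasis_affineOpens
        (U := ⊤) (x := X.hom y) trivial
      obtain ⟨W₁, hW₁, hy₁, hle⟩ := TopologicalSpace.Opens.isBasis_iff_nbhd.1
        X.left.isBasis_affineOpens (U := X.hom ⁻¹ᵁ W₂) (x := y) hy₂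
      exact TopologicalSpace.Opens.mem_iSup.2 ⟨⟨⟨⟨W₁, hW₁⟩, ⟨W₂, hW₂⟩⟩, hle⟩, hy₁⟩
    let 𝒰 := X.left.openCoverOfIsOpenCover _ hcov
    refine hne (GrothendieckTopology.transitive _
      (ofArrows_mem_of_mem (fun p : I => Scheme.ProEt.mk (p.1.1.1.ι ≫ X.hom))
        (fun p => openMap X p.1.1.1)
        (Scheme.zariskiPrecoverage_le_propQCPrecoverage _ 𝒰.mem₀)) _ ?_)
    rintro _ f ⟨_, a, _, ⟨p⟩, rfl⟩
    rw [Sieve.pullback_comp]
    exact GrothendieckTopology.pullback_stable _ a
      (hh p.1.1 p.1.2 p.2)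
  let Z₀ : S.ProEt := Scheme.ProEt.mk (A.1.ι ≫ X.hom)
  let i₀ : Z₀ ⟶ X := openMap X A.1
  let Z : Aff V := ULiftHom.objUp ⟨Z₀, A.2, by
    rintro _ ⟨y, rfl⟩
    exact hAV y.2⟩
  let i : (incl V).obj Z ⟶ X := i₀
  let R : Sieve Z := (T.pullback i).functorPullback (incl V)
  have hR : R ∉ affJ V Z := fun h => by
    rw [Functor.mem_restrictedTopology_iff] at h
    exact hbad
      (GrothendieckTopology.superset_covering _ (Sieve.functorPullback_pushforward_le _ _) h)
  let k : K := ⟨V, Z, R, hR⟩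
  haveI : InitiallySmall.{u + 1} (Φ k).fiber.Elements := (Φ k).initiallySmall
  let p := CategoryOfElements.π (Φ k).fiber ⋙ incl V
  let u₀ : (Φ k).fiber.Elements := (Φ k).fiber.elementsMk Z (x k)
  obtain ⟨Y, g, hg, y, hy⟩ := hT ⟨Ψ k, ObjectProperty.ofObj_apply Ψ k⟩
    (GrothendieckTopology.Point.ofIsCofiltered.fiberMk.{u + 1} (p := p) (U := u₀) i)
  obtain ⟨u₁, a, rfl⟩ := GrothendieckTopology.Point.ofIsCofiltered.fiberMk_jointly_surjective.{u + 1} (p := p) y
  obtain ⟨u₂, q₁, q₀, -⟩ := IsCofilteredOrEmpty.cone_objs u₁ u₀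
  have e : GrothendieckTopology.Point.ofIsCofiltered.fiberMk.{u + 1} (p := p) ((p.map q₁ ≫ a) ≫ g) =
      GrothendieckTopology.Point.ofIsCofiltered.fiberMk.{u + 1} (p := p) (p.map q₀ ≫ i) := by
    rw [Category.assoc, GrothendieckTopology.Point.ofIsCofiltered.fiberMk_map_comp.{u + 1},
      GrothendieckTopology.Point.ofIsCofiltered.fiberMk_map_comp.{u + 1}, ← hy]
    exact (GrothendieckTopology.Point.ofIsCofiltered.fiber_map_fiberMk.{u + 1} p a g).symm
  obtain ⟨u₃, r, hr⟩ := GrothendieckTopology.Point.ofIsCofiltered.exists_of_fiberMk_eq_fiberMk.{u + 1} e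
  let t : u₃.1 ⟶ Z := (r ≫ q₀).1
  refine hx k u₃.1 t ?_ u₃.2 (r ≫ q₀).2
  change T ((incl V).map t ≫ i)
  have : (incl V).map t ≫ i = (p.map r ≫ p.map q₁ ≫ a) ≫ g := by
    rw [Category.assoc, Category.assoc, ← Category.assoc (p.map q₁) a g, hr, ← Category.assoc,
      ← p.map_comp]
    rfl
  rw [this]
  exact T.downward_closed hg _

end ProEtPtsLib
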